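import Cfsg.Agent.Lib.Helper12.TCG.SuzQd5346.Chk0
import Cfsg.Agent.Lib.Helper12.TCG.SuzQd5346.Chk1
import Cfsg.Agent.Lib.Helper12.TCG.SuzQd5346.Chk2
import Cfsg.Agent.Lib.Helper12.TCG.SuzQd5346.Chk3
import Cfsg.Agent.Lib.Helper12.TCG.SuzQd5346.Perm
import Cfsg.Agent.Lib.Helper12.TCG.SuzQd5346.Fin

/-! the index theorem for SuzQd5346 (generated, helper12) -/

set_option autoImplicit false
set_option maxRecDepth 100000
set_option linter.unusedSimpArgs false

namespace Cfsg.Agent.Lib.Helper12.TCG.SuzQd5346

open Cfsg.Agent.Lib.Helper12.TC Cfsg.Agent.Lib.Helper12.TCG Cfsg.Agent.Lib.Helper12.SuzM.Pres5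

/-- the chunks of the certificate -/
def chunks : List (ℕ × List ℕ) :=
  [(28093, c0), (30093, c1), (32093, c2), (34093, c3), (36093, c4), (38093, c5), (40093, c6), (42093, c7), (44093, c8), (46093, c9), (48093, c10), (50093, c11), (52093, c12), (54093, c13), (56093, c14), (58093, c15), (60093, c16), (62093, c17), (64093, c18), (66093, c19), (68093, c20), (70093, c21), (72093, c22), (74093, c23), (76093, c24), (78093, c25), (80093, c26), (82093, c27), (84093, c28), (86093, c29), (88093, c30), (90093, c31)]

theorem hcover : coverK cD cK chunks = true := by decide +kernel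

theorem hchunks : ∀ c ∈ chunks, chunkW cIV F RW cR0 c.2 c.1 = true := by
  unfold chunks
  simp only [List.forall_mem_cons, List.not_mem_nil, false_imp_iff, implies_true, and_true]
  exact ⟨chunk0, chunk1, chunk2, chunk3, chunk4, chunk5, chunk6, chunk7, chunk8, chunk9, chunk10, chunk11, chunk12, chunk13, chunk14, chunk15, chunk16, chunk17, chunk18, chunk19, chunk20, chunk21, chunk22, chunk23, chunk24, chunk25, chunk26, chunk27, chunk28, chunk29, chunk30, chunk31⟩

end Cfsg.Agent.Lib.Helper12.TCG.SuzQd5346
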